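import Groth.Agent.FibEmbLib.AssDims
import Groth.Agent.AssLib.Noetherian
import Groth.Agent.OpenDim.Local
import Groth.Agent.PullbackMod.Props

/-!
Fibrewise torsion and torsion-freeness are constructible when the fibres are locally integral (EGA IV 9.4).
-/

set_option autoImplicit false
set_option linter.style.haveILetI false
set_option backward.isDefEq.respectTransparency false

universe u

open CategoryTheory AlgebraicGeometry Topology TopologicalSpace
open Groth.Agent.FibreDepth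

namespace Groth.Agent.FibEmbLib

/-- A point without proper generisation. -/
def GenPt {Z : Scheme.{u}} (z : Z) : Prop := ∀ w : Z, w ⤳ z → w = z

section Scheme

variable {Z : Scheme.{u}} {M : Z.Modules}

theorem genPt_of_isField {z : Z} (h : IsField (Z.presheaf.stalk z)) : GenPt z := fun w hw => by
  obtain ⟨p, rfl⟩ : w ∈ Set.range (Z.fromSpecStalk z) := by
    rw [Scheme.range_fromSpecStalk]; exact hw
  have hm := IsLocalRing.isField_iff_maximalIdeal_eq.1 h
  have hp : p = IsLocalRing.closedPoint (Z.presheaf.stalk z) := PrimeSpectrum.ext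
    ((le_antisymm ((IsLocalRing.le_maximalIdeal p.isPrime.ne_top).trans hm.le) bot_le).trans hm.symm)
  rw [hp]
  exact Scheme.fromSpecStalk_closedPoint

theorem isField_of_genPt {z : Z} [IsDomain (Z.presheaf.stalk z)] (h : GenPt z) : IsField (Z.presheaf.stalk z) := by
  refine IsLocalRing.isField_iff_maximalIdeal_eq.2 ?_
  let p : PrimeSpectrum (Z.presheaf.stalk z) := ⟨⊥, Ideal.isPrime_bot⟩
  have h1 : Z.fromSpecStalk z p ∈ Set.range (Z.fromSpecStalk z) := ⟨p, rfl⟩
  rw [Scheme.range_fromSpecStalk] at h1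
  have h2 : p = IsLocalRing.closedPoint (Z.presheaf.stalk z) :=
    (Z.fromSpecStalk z).isEmbedding.injective ((h _ h1).trans Scheme.fromSpecStalk_closedPoint.symm)
  exact (congrArg PrimeSpectrum.asIdeal h2).symm

theorem genPt_of_isAssPoint {z : Z} [IsDomain (Z.presheaf.stalk z)] (h : Curv2.IsAssPoint M z)
    (ht : Submodule.torsion (Z.presheaf.stalk z) (M.presheaf.stalk z) = ⊥) : GenPt z := by
  refine genPt_of_isField (IsLocalRing.isField_iff_maximalIdeal_eq.2 (eq_bot_iff.2 fun a ha => ?_))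
  obtain ⟨t, ht'⟩ := h.eq_radical_colon
  by_contra hne
  have ha' := ha
  rw [ht'] at ha'
  obtain ⟨k, hk⟩ := ha'
  rw [Submodule.mem_colon_singleton, Submodule.mem_bot] at hk
  have h0 : t = 0 := (Submodule.eq_bot_iff _).1 ht t
    ⟨⟨a ^ k, mem_nonZeroDivisors_of_ne_zero (pow_ne_zero _ hne)⟩, hk⟩
  apply h.toIsPrime.ne_top
  rw [ht', h0]
  rw [Ideal.radical_eq_top, Ideal.eq_top_iff_one, Submodule.mem_colon_singleton, smul_zero]
  exact zero_mem _

theorem subsingleton_stalk_of_torsion_top {z : Z} [IsDomain (Z.presheaf.stalk z)] (hz : GenPt z)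
    (ht : Submodule.torsion (Z.presheaf.stalk z) (M.presheaf.stalk z) = ⊤) :
    ¬ Nontrivial ↑(M.presheaf.stalk z) := by
  intro hn
  obtain ⟨t, ht0⟩ := exists_ne (0 : M.presheaf.stalk z)
  obtain ⟨⟨a, ha⟩, hat⟩ := (Submodule.mem_torsion_iff t).1 (ht.ge Submodule.mem_top)
  obtain ⟨b, hb⟩ := (isField_of_genPt hz).mul_inv_cancel (nonZeroDivisors.ne_zero ha)
  refine ht0 ?_
  have hab : a • t = 0 := hat
  rw [← one_smul (Z.presheaf.stalk z) t, ← hb, mul_comm, mul_smul, hab, smul_zero]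

theorem smul_germ {W : Z.Opens} {z : Z} (hz : z ∈ W) (a : Γ(Z, W)) (s : Γ(M, W)) :
    M.presheaf.germ W z hz (a • s) = Z.presheaf.germ W z hz a • M.presheaf.germ W z hz s :=
  PresheafOfModules.germ_smul (R := Z.presheaf) M.val z W hz a s

variable {W : Z.Opens} (hW : IsAffineOpen W)

include hW

theorem germ_ne_zero_of_notMem {w z : Z} (hw : w ∈ W) (hz : z ∈ W) (hwz : w ⤳ z) {b : Γ(Z, W)}
    (hb : b ∉ AssLib.pr hW hw) : Z.presheaf.germ W z hz b ≠ 0 := by
  intro h0
  letI : Algebra Γ(Z, W) (Z.presheaf.stalk z) := TopCat.Presheaf.algebra_section_stalk Z.presheaf ⟨z, hz⟩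
  haveI := hW.isLocalization_stalk ⟨z, hz⟩
  obtain ⟨⟨e, he⟩, heb⟩ := (IsLocalization.map_eq_zero_iff (AssLib.pr hW hz).primeCompl (Z.presheaf.stalk z) b).1 h0
  rcases ((hW.primeIdealOf ⟨w, hw⟩).isPrime).mem_or_mem (show e * b ∈ AssLib.pr hW hw by
    rw [show e * b = 0 from heb]; exact zero_mem _) with h | h
  · exact he ((AssLib.specializes_iff hW hz hw).1 hwz h)
  · exact hb h

theorem germ_ne_zero_of_specializes {w z : Z} [IsDomain (Z.presheaf.stalk z)] (hw : w ∈ W) (hz : z ∈ W)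
    (hwz : w ⤳ z) {c : Γ(Z, W)} (hc : Z.presheaf.germ W z hz c ≠ 0) : Z.presheaf.germ W w hw c ≠ 0 := by
  intro h0
  letI : Algebra Γ(Z, W) (Z.presheaf.stalk w) := TopCat.Presheaf.algebra_section_stalk Z.presheaf ⟨w, hw⟩
  haveI := hW.isLocalization_stalk ⟨w, hw⟩
  obtain ⟨⟨d, hd⟩, hdc⟩ := (IsLocalization.map_eq_zero_iff (AssLib.pr hW hw).primeCompl (Z.presheaf.stalk w) c).1 h0
  have h1 := congrArg (Z.presheaf.germ W z hz) hdc
  rw [map_mul, map_zero] at h1
  exact mul_ne_zero (germ_ne_zero_of_notMem hW hw hz hwz hd) hc h1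

end Scheme

section Criteria

variable {Z : Scheme.{u}} {M : Z.Modules} [IsLocallyNoetherian Z] [Coh.IsQCoh M]

theorem torsion_eq_bot (hd : ∀ z : Z, IsDomain (Z.presheaf.stalk z))
    (h : ∀ w : Z, Curv2.IsAssPoint M w → GenPt w) (z : Z) :
    Submodule.torsion (Z.presheaf.stalk z) (M.presheaf.stalk z) = ⊥ := by
  rw [Submodule.eq_bot_iff]
  intro t ht
  obtain ⟨⟨a, ha⟩, hat⟩ := (Submodule.mem_torsion_iff t).1 ht
  haveI := hd z
  have ha0 : a ≠ 0 := nonZeroDivisors.ne_zero ha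
  by_contra hne
  obtain ⟨V₁, hz₁, s₁, rfl⟩ := TopCat.Presheaf.exists_germ_eq M.presheaf t
  obtain ⟨V₂, hz₂, a₁, rfl⟩ := TopCat.Presheaf.exists_germ_eq Z.presheaf a
  obtain ⟨W, hW, hzW, hle⟩ := AssLib.exists_affine_mem z (U := V₁ ⊓ V₂) ⟨hz₁, hz₂⟩
  let s : Γ(M, W) := M.presheaf.map (homOfLE (hle.trans inf_le_left)).op s₁
  let a₀ : Γ(Z, W) := Z.presheaf.map (homOfLE (hle.trans inf_le_right)).op a₁
  have hs : M.presheaf.germ W z hzW s = M.presheaf.germ V₁ z hz₁ s₁ := M.presheaf.germ_res_apply _ _ _ s₁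
  have ha₀ : Z.presheaf.germ W z hzW a₀ = Z.presheaf.germ V₂ z hz₂ a₁ := Z.presheaf.germ_res_apply _ _ _ a₁
  have h0 : M.presheaf.germ W z hzW (a₀ • s) = 0 := by
    rw [smul_germ, hs, ha₀]; exact hat
  obtain ⟨c, hc, hcs⟩ := (AssLib.germ_eq_zero_iff hW hzW (a₀ • s)).1 h0
  rw [← mul_smul] at hcs
  have hca : Z.presheaf.germ W z hzW (c * a₀) ≠ 0 := by
    rw [map_mul]
    exact mul_ne_zero (germ_ne_zero_of_notMem hW hzW hzW (specializes_refl z) hc) (ha₀ ▸ ha0)
  obtain ⟨w, hw, hwz, hass, hws⟩ := AssLib.exists_isAssPoint s hzW (hs.trans_ne hne)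
  haveI := hd w
  obtain ⟨b, hb⟩ := (isField_of_genPt (h w hass)).mul_inv_cancel (germ_ne_zero_of_specializes hW hw hzW hwz hca)
  have h1 : M.presheaf.germ W w hw ((c * a₀) • s) = 0 := by rw [hcs, map_zero]
  rw [smul_germ] at h1
  refine hws ?_
  rw [← one_smul (Z.presheaf.stalk w) (M.presheaf.germ W w hw s), ← hb, mul_comm, mul_smul, h1, smul_zero]

theorem torsion_eq_top (hd : ∀ z : Z, IsDomain (Z.presheaf.stalk z))
    (h : ∀ w : Z, GenPt w → ¬ Nontrivial ↑(M.presheaf.stalk w)) (z : Z) :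
    Submodule.torsion (Z.presheaf.stalk z) (M.presheaf.stalk z) = ⊤ := by
  rw [eq_top_iff]
  intro t _
  obtain ⟨V, hzV, s₁, rfl⟩ := TopCat.Presheaf.exists_germ_eq M.presheaf t
  obtain ⟨W, hW, hzW, hle⟩ := AssLib.exists_affine_mem z hzV
  let s : Γ(M, W) := M.presheaf.map (homOfLE hle).op s₁
  have hs : M.presheaf.germ W z hzW s = M.presheaf.germ V z hzV s₁ := M.presheaf.germ_res_apply _ _ _ s₁
  obtain ⟨w, hwz, hmax⟩ := DimFormulaLib.exists_maximal_point z
  have hw : w ∈ W := AssLib.mem_of_specializes hwz hzW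
  haveI := not_nontrivial_iff_subsingleton.1 (h w hmax)
  obtain ⟨b, hb, hbs⟩ := (AssLib.germ_eq_zero_iff hW hw s).1 (Subsingleton.elim _ _)
  haveI := hd z
  refine (Submodule.mem_torsion_iff _).2
    ⟨⟨_, mem_nonZeroDivisors_of_ne_zero (germ_ne_zero_of_notMem hW hw hzW hwz hb)⟩, ?_⟩
  show Z.presheaf.germ W z hzW b • M.presheaf.germ V z hzV s₁ = 0
  rw [← hs, ← smul_germ, hbs, map_zero]

end Criteria

variable {X S : Scheme.{u}} (f : X ⟶ S)

theorem apply_fiberι (y : S) (z : f.fiber y) : f (f.fiberι y z) = y :=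
  (fib_transfer f y z fun _ _ => True).1

theorem genPt_fibre_iff (y : S) (z : f.fiber y) : GenPt z ↔ OpenDim.MaxInFibre f (f.fiberι y z) := by
  constructor
  · intro h x' hx' hs
    obtain ⟨w, rfl⟩ : x' ∈ Set.range (f.fiberι y) := by
      rw [show Set.range (f.fiberι y) = f ⁻¹' {y} from f.range_fiberι _]
      exact hx'.trans (apply_fiberι f y z)
    rw [h w ((f.fiberι y).isEmbedding.isInducing.specializes_iff.1 hs)]
  · intro h w hw
    exact (f.fiberι y).isEmbedding.injective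
      (h _ ((apply_fiberι f y w).trans (apply_fiberι f y z).symm) (hw.map (f.fiberι y).continuous))

theorem maxInFibre_iff_le [LocallyOfFiniteType f] (x : X) :
    OpenDim.MaxInFibre f x ↔ FlatMor.fibreDimAt f x ≤ (OpenDim.trd f x : WithBot ℕ∞) := by
  refine ⟨fun h => (OpenDim.fibreDimAt_eq_trd f h).le, fun h x' hx' hs => ?_⟩
  by_contra hne
  have h1 := OpenDim.trd_lt f hs hne hx'
  have h2 : OpenDim.trd f x' ≤ OpenDim.trd f x :=
    Nat.cast_le.1 ((OpenDim.trd_le_fibreDimAt f hx' hs).trans h)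
  omega

section Constr

variable [LocallyOfFinitePresentation f] (F : X.Modules) [Coh.IsQCoh F] (hF : CohB1.IsFP F)

include hF

theorem isLocallyConstructible_supp : IsLocallyConstructible {x : X | fiberSupp f F x ≠ ⊥} :=
  isLocallyConstructible_of_embeddings _ fun x => by
    obtain ⟨𝔐, hx⟩ := exists_model f F hF x
    refine ⟨𝔐.B, 𝔐.commB, 𝔐.emb, 𝔐.isOpenEmbedding, hx, ?_⟩
    convert CMFlatLib.isConstructible_comap 𝔐.φ (isConstructible_support (A := 𝔐.A) (m := 𝔐.m) 𝔐.M) using 1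
    ext q
    exact 𝔐.supp_ne_bot_iff q

theorem isLocallyConstructible_depth_add_lt (n : ℕ) : IsLocallyConstructible {x : X |
    ¬ (n : WithBot ℕ∞) ≤ ((CInt.fiberDepth f F x : ℕ∞) : WithBot ℕ∞) + clDim f x} :=
  isLocallyConstructible_of_embeddings _ fun x => by
    obtain ⟨𝔐, hx⟩ := exists_model f F hF x
    exact ⟨𝔐.B, 𝔐.commB, 𝔐.emb, 𝔐.isOpenEmbedding, hx, isConstructible_compl.2 (𝔐.isConstructible_depth_add_dim n)⟩

variable [IsLocallyNoetherian S] [QuasiCompact f]

omit [Coh.IsQCoh F] hF in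
theorem isLocallyConstructible_fibreDim_le (n : ℕ) :
    IsLocallyConstructible {x : X | FlatMor.fibreDimAt f x ≤ (n : WithBot ℕ∞)} := by
  haveI := LocallyOfFiniteType.isLocallyNoetherian f
  exact OpenDim.isLocallyConstructible_of_isOpen (isOpen_fibreDimAt_le f _)

omit [IsLocallyNoetherian S] in
/-- The images of locally constructible sets graded by the transcendence degree. -/
theorem isLocallyConstructible_exists_trd {V : ℕ → Set X} (hV : ∀ n, IsLocallyConstructible (V n)) :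
    IsLocallyConstructible {y : S | ∃ x, f x = y ∧ ∃ n, x ∈ V n ∧ n ≤ OpenDim.trd f x} := by
  refine NearGen.isLocallyConstructible_of_affine _ fun U hU => ?_
  obtain ⟨N, hN⟩ := exists_clDim_bound f F hF hU
  refine (Set.ext fun p => ?_ :
      hU.fromSpec ⁻¹' {y : S | ∃ x, f x = y ∧ ∃ n, x ∈ V n ∧ n ≤ OpenDim.trd f x} = _) ▸
    IsConstructible.biUnion (t := {n : ℕ | n ≤ N}) (Set.finite_le_nat N) fun n _ =>
      IsLocallyConstructible.isConstructible (X := PrimeSpectrum Γ(S, U))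
        ((isLocallyConstructible_image_dim_ge f (hV n) n).preimage_of_isOpenEmbedding hU.fromSpec.isOpenEmbedding)
  simp only [Set.mem_preimage, Set.mem_ofPred_eq, Set.mem_iUnion₂, exists_prop]
  constructor
  · rintro ⟨x, hx, n, hn, hle⟩
    refine ⟨n, ?_, x, hn, hx, hle⟩
    have h := hN x (by rw [hx]; exact hU.range_fromSpec.le ⟨p, rfl⟩)
    rw [clDim_eq_trd, Nat.cast_le] at h
    exact hle.trans h
  · rintro ⟨n, -, x, hn, hx, hle⟩
    exact ⟨x, hx, n, hn, hle⟩

theorem isLocallyConstructible_torsion_bot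
    (hint : ∀ (s : S) (x : ↥(f.fiber s)), IsDomain ((f.fiber s).presheaf.stalk x)) :
    IsLocallyConstructible {s : S | ∀ x : ↥(f.fiber s),
      Submodule.torsion ((f.fiber s).presheaf.stalk x)
        (((Scheme.Modules.pullback (f.fiberι s)).obj F).presheaf.stalk x) = ⊥} := by
  let V : ℕ → Set X := fun n => ({x | fiberSupp f F x ≠ ⊥} ∩
    {x | ¬ ((n + 1 : ℕ) : WithBot ℕ∞) ≤ ((CInt.fiberDepth f F x : ℕ∞) : WithBot ℕ∞) + clDim f x}) ∩
    {x | FlatMor.fibreDimAt f x ≤ (n : WithBot ℕ∞)}ᶜ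
  have hV : ∀ n, IsLocallyConstructible (V n) := fun n =>
    ((isLocallyConstructible_supp f F hF).inter (isLocallyConstructible_depth_add_lt f F hF (n + 1))).inter
      (CMFlatLib.isLocallyConstructible_compl (isLocallyConstructible_fibreDim_le f n))
  convert CMFlatLib.isLocallyConstructible_compl (isLocallyConstructible_exists_trd f F hF hV) using 1
  ext s
  constructor
  · rintro hs ⟨x, rfl, n, ⟨⟨hne, hnle⟩, hdim⟩, hn⟩
    haveI := hint (f.base x) (f.asFiber x)
    obtain ⟨𝔐, q, rfl⟩ := exists_model f F hF x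
    obtain ⟨t, D, ht, hD, hDs⟩ := 𝔐.exists_data q hne
    rw [Set.mem_ofPred_eq, hD, clDim_eq_trd, show ((D : ℕ∞) : WithBot ℕ∞) = (D : WithBot ℕ∞) from rfl,
      ← Nat.cast_add, Nat.cast_le] at hnle
    have hass : Curv2.IsAssPoint ((Scheme.Modules.pullback (f.fiberι (f.base (𝔐.emb q)))).obj F)
        (f.asFiber (𝔐.emb q)) := (mem_ass_iff f F hF _).2 (by rw [hD]; exact_mod_cast (by omega : D = 0))
    have hmax := (genPt_fibre_iff f _ _).1 (genPt_of_isAssPoint hass (hs (f.asFiber (𝔐.emb q))))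
    rw [f.fiberι_asFiber, maxInFibre_iff_le, show OpenDim.trd f (𝔐.emb q) = n by omega] at hmax
    exact hdim hmax
  · intro hs z
    haveI : LocallyOfFiniteType (f.fiberToSpecResidueField s) := MorphismProperty.pullback_snd _ _ inferInstance
    haveI : IsLocallyNoetherian (f.fiber s) := LocallyOfFiniteType.isLocallyNoetherian (f.fiberToSpecResidueField s)
    haveI : Coh.IsQCoh ((Scheme.Modules.pullback (f.fiberι s)).obj F) := PullbackMod.isQCoh_pullback _ _
    refine torsion_eq_bot (hint s) (fun w hw => ?_) z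
    by_contra hgen
    have h0 := (ass_iff f F hF s w).1 hw
    rw [genPt_fibre_iff, maxInFibre_iff_le] at hgen
    refine hs ⟨f.fiberι s w, apply_fiberι f s w, OpenDim.trd f (f.fiberι s w),
      ⟨⟨fiberSupp_ne_bot_of_depth_zero f F hF h0, ?_⟩, hgen⟩, le_rfl⟩
    rw [Set.mem_ofPred_eq, h0, clDim_eq_trd, show (((0 : ℕ∞)) : WithBot ℕ∞) = 0 from rfl, zero_add, Nat.cast_le]
    omega

theorem isLocallyConstructible_torsion_top
    (hint : ∀ (s : S) (x : ↥(f.fiber s)), IsDomain ((f.fiber s).presheaf.stalk x)) :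
    IsLocallyConstructible {s : S | ∀ x : ↥(f.fiber s),
      Submodule.torsion ((f.fiber s).presheaf.stalk x)
        (((Scheme.Modules.pullback (f.fiberι s)).obj F).presheaf.stalk x) = ⊤} := by
  let V : ℕ → Set X := fun n => {x | fiberSupp f F x ≠ ⊥} ∩ {x | FlatMor.fibreDimAt f x ≤ (n : WithBot ℕ∞)}
  have hV : ∀ n, IsLocallyConstructible (V n) := fun n =>
    (isLocallyConstructible_supp f F hF).inter (isLocallyConstructible_fibreDim_le f n)
  convert CMFlatLib.isLocallyConstructible_compl (isLocallyConstructible_exists_trd f F hF hV) using 1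
  ext s
  constructor
  · rintro hs ⟨x, rfl, n, ⟨hne, hdim⟩, hn⟩
    haveI := hint (f.base x) (f.asFiber x)
    have hmax : GenPt (f.asFiber x) := by
      rw [genPt_fibre_iff, f.fiberι_asFiber, maxInFibre_iff_le]
      exact le_trans hdim (Nat.cast_le.2 hn)
    exact subsingleton_stalk_of_torsion_top hmax (hs (f.asFiber x)) ((fiberSupp_ne_bot_iff f F hF x).2 hne)
  · intro hs z
    haveI : LocallyOfFiniteType (f.fiberToSpecResidueField s) := MorphismProperty.pullback_snd _ _ inferInstance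
    haveI : IsLocallyNoetherian (f.fiber s) := LocallyOfFiniteType.isLocallyNoetherian (f.fiberToSpecResidueField s)
    haveI : Coh.IsQCoh ((Scheme.Modules.pullback (f.fiberι s)).obj F) := PullbackMod.isQCoh_pullback _ _
    refine torsion_eq_top (hint s) (fun w hgen hnt => ?_) z
    rw [genPt_fibre_iff, maxInFibre_iff_le] at hgen
    exact hs ⟨f.fiberι s w, apply_fiberι f s w, OpenDim.trd f (f.fiberι s w),
      ⟨(mem_fibSuppSet f F hF s w).1 hnt, hgen⟩, le_rfl⟩

end Constr

end Groth.Agent.FibEmbLib
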