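import Groth.Agent.FibEmbLib.Basic
import Groth.Agent.GorLib.Heights
import Groth.Agent.S2089

/-!
Constructibility of the dimensions of the components of the supports of the fibres (EGA IV 9.8).
-/

set_option autoImplicit false
set_option linter.style.haveILetI false
set_option backward.isDefEq.respectTransparency false
set_option synthInstance.maxHeartbeats 200000
set_option maxHeartbeats 800000

universe u

open CategoryTheory AlgebraicGeometry IsLocalRing TensorProduct Topology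
open Groth.Agent.FibreDepth

namespace Groth.Agent.FibEmbLib

attribute [local instance] Algebra.TensorProduct.rightAlgebra

theorem height_core {P R S : Type u} [CommRing P] [CommRing R] [IsRegularLocalRing R] [Algebra P R]
    [CommRing S] [IsLocalRing S] [Algebra P S] (M : Type u) [AddCommGroup M] [Module P M] [Module.Finite P M]
    (𝔯 : Ideal R) [𝔯.IsPrime] (E : Localization.AtPrime 𝔯 ≃ₐ[P] S) (dq dr D : ℕ)
    (hdq : ringKrullDim R = dq) (hdr : ringKrullDim S = dr) (hD : tensDepth P R M = D)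
    (hs : tensSupp P R M ≤ (D : WithBot ℕ∞)) (hr : tensSupp P S M = 0) : dr + D = dq := by
  have hmin : 𝔯 ∈ (Module.annihilator R (R ⊗[P] M)).minimalPrimes := by
    refine (minimal_iff_supportDim_zero 𝔯).2 ?_
    rw [(fibIso_localized M 𝔯).supportDim_eq]
    exact (tens_congr M E).2.trans hr
  have hass := Module.associatedPrimes.minimalPrimes_annihilator_subset_associatedPrimes R (R ⊗[P] M) hmin
  have h1 := S2089.result 𝔯 hass
  rw [tensDepth] at hD
  rw [hD] at h1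
  have h2 : ringKrullDim (R ⧸ 𝔯) ≤ (D : WithBot ℕ∞) := by
    refine le_trans ?_ hs
    rw [tensSupp, Module.supportDim_eq_ringKrullDim_quotient_annihilator]
    exact ringKrullDim_le_of_surjective (Ideal.Quotient.factor hmin.1.2) (Ideal.Quotient.factor_surjective _)
  have h3 := le_antisymm h2 h1
  have h4 : (𝔯.height : WithBot ℕ∞) = dr := by
    rw [← IsLocalization.AtPrime.ringKrullDim_eq_height 𝔯 (Localization.AtPrime 𝔯),
      ringKrullDim_eq_of_ringEquiv E.toRingEquiv, hdr]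
  have h5 := GorLib.height_add_ringKrullDim_quotient (GorLib.gorensteinLocal_of_regular R) 𝔯
  rw [h3, h4, hdq] at h5
  exact_mod_cast h5

/-- A Cohen-Macaulay point of the support lies on components of a single dimension. -/
theorem height_of_cm {A : Type u} [CommRing A] {m : ℕ} (M : Type u) [AddCommGroup M]
    [Module (MvPolynomial (Fin m) A) M] [Module.Finite (MvPolynomial (Fin m) A) M]
    (q r : PrimeSpectrum (MvPolynomial (Fin m) A)) (dq dr D : ℕ)
    (hdq : ringKrullDim (FibRing A q) = dq) (hdr : ringKrullDim (FibRing A r) = dr)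
    (hle : r.asIdeal ≤ q.asIdeal) (hb : basePrime A r = basePrime A q)
    (hD : tensDepth (MvPolynomial (Fin m) A) (FibRing A q) M = D)
    (hs : tensSupp (MvPolynomial (Fin m) A) (FibRing A q) M ≤ (D : WithBot ℕ∞))
    (hr : tensSupp (MvPolynomial (Fin m) A) (FibRing A r) M = 0) : dr + D = dq := by
  obtain ⟨𝔯, h𝔯⟩ := exists_prime_of_le q r hle hb
  obtain ⟨r', hr', -, ⟨E⟩⟩ := exists_algEquiv_fibRing q 𝔯.asIdeal
  obtain rfl : r' = r := PrimeSpectrum.ext (hr'.trans h𝔯.symm)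
  haveI := isRegularLocalRing_fibRing (A := A) q
  exact height_core (R := FibRing A q) (S := FibRing A r') M 𝔯.asIdeal E dq dr D hdq hdr hD hs hr

variable {X Y : Scheme.{u}} {f : X ⟶ Y} {dep : X → ℕ∞} {supp : X → WithBot ℕ∞} {flatAt : X → Prop}

/-- Cohen-Macaulay points of the support with component dimension in `P`. -/
def cmSet (f : X ⟶ Y) (dep : X → ℕ∞) (supp : X → WithBot ℕ∞) (P : ℕ → Prop) : Set X :=
  {x | supp x ≠ ⊥ ∧ supp x ≤ ((dep x : ℕ∞) : WithBot ℕ∞) ∧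
    ∃ n : ℕ, P n ∧ ((dep x : ℕ∞) : WithBot ℕ∞) + clDim f x = (n : WithBot ℕ∞)}

theorem isConstructible_cmSet (𝔐 : Model f dep supp flatAt) (P : ℕ → Prop) :
    IsConstructible (𝔐.emb ⁻¹' cmSet f dep supp P) := by
  classical
  have h0 : IsConstructible {q : PrimeSpectrum 𝔐.B | supp (𝔐.emb q) ≠ ⊥} := by
    convert CMFlatLib.isConstructible_comap 𝔐.φ (isConstructible_support (A := 𝔐.A) (m := 𝔐.m) 𝔐.M) using 1
    ext q
    exact 𝔐.supp_ne_bot_iff q
  have h1 := 𝔐.isConstructible_coprof 0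
  have h2 := fun n : ℕ => 𝔐.isConstructible_depth_add_dim_eq (n : ℕ∞)
  have h3 : IsConstructible (⋃ n ∈ {n : ℕ | n ≤ 𝔐.m ∧ P n}, {q : PrimeSpectrum 𝔐.B |
      ((dep (𝔐.emb q) : ℕ∞) : WithBot ℕ∞) + clDim f (𝔐.emb q) = ((n : ℕ∞) : WithBot ℕ∞)}) :=
    IsConstructible.biUnion (t := {n : ℕ | n ≤ 𝔐.m ∧ P n}) ((Set.finite_le_nat 𝔐.m).subset fun _ hn => hn.1)
      fun n _ => h2 n
  convert h0.inter (h1.inter h3) using 1
  ext q
  simp only [cmSet, Set.mem_preimage, Set.mem_ofPred_eq, Set.mem_inter_iff, Set.mem_iUnion₂, exists_prop,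
    Nat.cast_zero, add_zero]
  constructor
  · rintro ⟨hne, hle, n, hn, hdn⟩
    refine ⟨hne, hle, n, ⟨?_, hn⟩, hdn⟩
    obtain ⟨d, t, hd, ht, hm⟩ := 𝔐.exists_dims q
    obtain ⟨s, D, hs, hD, hDs⟩ := 𝔐.exists_data q hne
    have hsd : supp (𝔐.emb q) ≤ (d : WithBot ℕ∞) := by
      rw [𝔐.supp_eq q, ← hd]
      exact tensSupp_le _ 𝔐.M
    rw [hs] at hsd
    rw [hD, ht] at hdn
    have e1 : D + t = n := by exact_mod_cast hdn
    have e2 : s ≤ d := by exact_mod_cast hsd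
    omega
  · rintro ⟨hne, hle, n, ⟨-, hn⟩, hdn⟩
    exact ⟨hne, hle, n, hn, hdn⟩

theorem clDim_of_cm (𝔐 : Model f dep supp flatAt) (q z : PrimeSpectrum 𝔐.B) (n : ℕ)
    (hne : supp (𝔐.emb q) ≠ ⊥) (hle : supp (𝔐.emb q) ≤ ((dep (𝔐.emb q) : ℕ∞) : WithBot ℕ∞))
    (hn : ((dep (𝔐.emb q) : ℕ∞) : WithBot ℕ∞) + clDim f (𝔐.emb q) = (n : WithBot ℕ∞))
    (hzq : 𝔐.emb z ⤳ 𝔐.emb q) (hb : f.base (𝔐.emb z) = f.base (𝔐.emb q)) (h0 : supp (𝔐.emb z) = 0) :
    clDim f (𝔐.emb z) = (n : WithBot ℕ∞) := by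
  obtain ⟨dq, tq, hdq, htq, hmq⟩ := 𝔐.exists_dims q
  obtain ⟨dz, tz, hdz, htz, hmz⟩ := 𝔐.exists_dims z
  obtain ⟨s, D, hs, hD, hDs⟩ := 𝔐.exists_data q hne
  rw [hD, htq] at hn
  have e1 : D + tq = n := by exact_mod_cast hn
  have hkey := height_of_cm 𝔐.M (𝔐.pt q) (𝔐.pt z) dq dz D hdq hdz ((𝔐.pt_le_iff z q).2 hzq)
    ((𝔐.fibre_eq z q).1 hb) ((𝔐.depth_eq q).symm.trans hD)
    ((𝔐.supp_eq q).symm.trans_le (hle.trans (by rw [hD]; rfl))) ((𝔐.supp_eq z).symm.trans h0)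
  rw [htz, show tz = n by omega]

/-- The locus of fibres having a component of the support with dimension in `P`. -/
theorem isLocallyConstructible_exists_component {X S : Scheme.{u}} (f : X ⟶ S) [LocallyOfFinitePresentation f]
    [QuasiCompact f] (F : X.Modules) [Coh.IsQCoh F] (hF : CohB1.IsFP F) (P : ℕ → Prop) :
    IsLocallyConstructible {y : S | ∃ n : ℕ, P n ∧
      ∃ Z ∈ irreducibleComponents ↥(fibSuppSet f F y), topologicalKrullDim ↥Z = (n : WithBot ℕ∞)} := by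
  have hT : IsLocallyConstructible (cmSet f (CInt.fiberDepth f F) (fiberSupp f F) P) :=
    isLocallyConstructible_of_embeddings _ fun x => by
      obtain ⟨𝔐, hx⟩ := exists_model f F hF x
      exact ⟨𝔐.B, 𝔐.commB, 𝔐.emb, 𝔐.isOpenEmbedding, hx, isConstructible_cmSet 𝔐 P⟩
  rw [show {y : S | ∃ n : ℕ, P n ∧ ∃ Z ∈ irreducibleComponents ↥(fibSuppSet f F y),
    topologicalKrullDim ↥Z = (n : WithBot ℕ∞)} = f '' cmSet f (CInt.fiberDepth f F) (fiberSupp f F) P from ?_]
  · exact f.isLocallyConstructible_image hT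
  ext y
  constructor
  · rintro ⟨n, hn, h⟩
    obtain ⟨x, hxy, h0, hx⟩ := (exists_component_fibre_iff f F hF y (fun v => v = (n : WithBot ℕ∞))).1 h
    refine ⟨x, ⟨h0.trans_ne WithBot.zero_ne_bot, ?_, n, hn, ?_⟩, hxy⟩
    · rw [h0, fiberDepth_zero_of_supp_zero f F hF h0]
      exact le_rfl
    · rw [fiberDepth_zero_of_supp_zero f F hF h0, hx]
      exact zero_add _
  · rintro ⟨x, ⟨hne, hle, n, hn, hdn⟩, rfl⟩
    obtain ⟨𝔐, q, rfl⟩ := exists_model f F hF x
    obtain ⟨z, hzq, hb, h0⟩ := 𝔐.exists_min_le q hne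
    exact ⟨n, hn, (exists_component_fibre_iff f F hF _ (fun v => v = (n : WithBot ℕ∞))).2
      ⟨_, hb, h0, clDim_of_cm 𝔐 q z n hne hle hdn hzq hb h0⟩⟩

end Groth.Agent.FibEmbLib
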