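import Groth.Agent.FibEmbLib.DimConstr

/-!
Constructibility of the dimensions of the associated prime cycles of the fibres (EGA IV 9.8).
-/

set_option autoImplicit false
set_option linter.style.haveILetI false

universe u

open CategoryTheory AlgebraicGeometry Topology
open Groth.Agent.FibreDepth

namespace Groth.Agent.FibEmbLib

variable {X S : Scheme.{u}} (f : X ⟶ S) [LocallyOfFinitePresentation f] [QuasiCompact f] (F : X.Modules)
  [Coh.IsQCoh F] (hF : CohB1.IsFP F)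

include hF

theorem isLocallyConstructible_exists_ass (n : ℕ) :
    IsLocallyConstructible {y : S | ∃ z ∈ AssSch.Ass ((Scheme.Modules.pullback (f.fiberι y)).obj F),
      topologicalKrullDim ↥(closure ({z} : Set ↥(f.fiber y))) = (n : WithBot ℕ∞)} := by
  let V : Set X := {x | fiberSupp f F x ≠ ⊥ ∧
    ¬ ((n + 1 : ℕ) : WithBot ℕ∞) ≤ ((CInt.fiberDepth f F x : ℕ∞) : WithBot ℕ∞) + clDim f x}
  have hV : IsLocallyConstructible V := isLocallyConstructible_of_embeddings _ fun x => by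
    obtain ⟨𝔐, hx⟩ := exists_model f F hF x
    refine ⟨𝔐.B, 𝔐.commB, 𝔐.emb, 𝔐.isOpenEmbedding, hx, ?_⟩
    have h0 : IsConstructible {q : PrimeSpectrum 𝔐.B | fiberSupp f F (𝔐.emb q) ≠ ⊥} := by
      convert CMFlatLib.isConstructible_comap 𝔐.φ (isConstructible_support (A := 𝔐.A) (m := 𝔐.m) 𝔐.M) using 1
      ext q
      exact 𝔐.supp_ne_bot_iff q
    exact h0.inter (isConstructible_compl.2 (𝔐.isConstructible_depth_add_dim (n + 1)))
  rw [show {y : S | ∃ z ∈ AssSch.Ass ((Scheme.Modules.pullback (f.fiberι y)).obj F),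
    topologicalKrullDim ↥(closure ({z} : Set ↥(f.fiber y))) = (n : WithBot ℕ∞)} =
    {y : S | ∃ x ∈ V, f x = y ∧ n ≤ OpenDim.trd f x} from ?_]
  · exact isLocallyConstructible_image_dim_ge f hV n
  ext y
  constructor
  · rintro ⟨z, hz, hd⟩
    have h0 := (ass_iff f F hF y z).1 hz
    have hcl : clDim f (f.fiberι y z) = (n : WithBot ℕ∞) :=
      (fib_transfer f y z fun y z => topologicalKrullDim ↥(closure ({z} : Set ↥(f.fiber y))) = (n : WithBot ℕ∞)).2.2 hd
    refine ⟨f.fiberι y z, ⟨fiberSupp_ne_bot_of_depth_zero f F hF h0, ?_⟩, (fib_transfer f y z fun _ _ => True).1, ?_⟩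
    · rw [h0, hcl, show (((0 : ℕ∞)) : WithBot ℕ∞) = 0 from rfl, zero_add]
      exact fun h => absurd (Nat.cast_le.1 h) (Nat.not_succ_le_self n)
    · rw [clDim_eq_trd] at hcl
      exact (Nat.cast_inj.1 hcl).ge
  · rintro ⟨x, ⟨hne, hnle⟩, rfl, hn⟩
    obtain ⟨𝔐, q, rfl⟩ := exists_model f F hF x
    obtain ⟨s, D, hs, hD, hDs⟩ := 𝔐.exists_data q hne
    rw [hD, clDim_eq_trd, show ((D : ℕ∞) : WithBot ℕ∞) = (D : WithBot ℕ∞) from rfl, ← Nat.cast_add,
      Nat.cast_le] at hnle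
    have h0 : CInt.fiberDepth f F (𝔐.emb q) = 0 := by
      rw [hD]
      exact_mod_cast (by omega : D = 0)
    refine ⟨f.asFiber (𝔐.emb q), (mem_ass_iff f F hF _).2 h0, (clDim_eq_trd f (𝔐.emb q)).trans ?_⟩
    rw [show OpenDim.trd f (𝔐.emb q) = n by omega]

/-- Fibre invariants are bounded over affine opens of the base. -/
theorem exists_clDim_bound {U : S.Opens} (hU : IsAffineOpen U) :
    ∃ N : ℕ, ∀ x : X, f x ∈ U → clDim f x ≤ (N : WithBot ℕ∞) := by
  choose M hM using fun x : X => exists_model f F hF x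
  obtain ⟨t, ht⟩ := (f.isCompact_preimage hU.isCompact).elim_finite_subcover (fun x => Set.range (M x).emb)
    (fun x => (M x).isOpenEmbedding.isOpen_range) (fun x _ => Set.mem_iUnion.2 ⟨x, hM x⟩)
  refine ⟨t.sup fun x => (M x).m, fun x hx => ?_⟩
  obtain ⟨x₀, hx₀, q, rfl⟩ := Set.mem_iUnion₂.1 (ht hx)
  obtain ⟨d, t', -, ht', hm⟩ := (M x₀).exists_dims q
  rw [ht', Nat.cast_le]
  exact le_trans (by omega) (Finset.le_sup (f := fun x => (M x).m) hx₀)

theorem isLocallyConstructible_ass_dims_mem (P : ℕ → Prop) :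
    IsLocallyConstructible {y : S | ∃ k : ℕ, P k ∧ ∃ z ∈ AssSch.Ass ((Scheme.Modules.pullback (f.fiberι y)).obj F),
      topologicalKrullDim ↥(closure ({z} : Set ↥(f.fiber y))) = (k : WithBot ℕ∞)} := by
  refine NearGen.isLocallyConstructible_of_affine _ fun U hU => ?_
  obtain ⟨N, hN⟩ := exists_clDim_bound f F hF hU
  have hc : ∀ k : ℕ, IsConstructible (X := PrimeSpectrum Γ(S, U)) (hU.fromSpec ⁻¹'
      {y : S | ∃ z ∈ AssSch.Ass ((Scheme.Modules.pullback (f.fiberι y)).obj F),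
        topologicalKrullDim ↥(closure ({z} : Set ↥(f.fiber y))) = (k : WithBot ℕ∞)}) := fun k =>
    IsLocallyConstructible.isConstructible (X := PrimeSpectrum Γ(S, U))
      ((isLocallyConstructible_exists_ass f F hF k).preimage_of_isOpenEmbedding hU.fromSpec.isOpenEmbedding)
  refine (Set.ext fun p => ?_ : hU.fromSpec ⁻¹' {y : S | ∃ k : ℕ, P k ∧ ∃ z ∈ AssSch.Ass ((Scheme.Modules.pullback (f.fiberι y)).obj F),
      topologicalKrullDim ↥(closure ({z} : Set ↥(f.fiber y))) = (k : WithBot ℕ∞)} = _) ▸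
    IsConstructible.biUnion (t := {k : ℕ | k ≤ N ∧ P k}) ((Set.finite_le_nat N).subset fun _ hk => hk.1) fun k _ => hc k
  simp only [Set.mem_preimage, Set.mem_ofPred_eq, Set.mem_iUnion₂, exists_prop]
  constructor
  · rintro ⟨k, hk, z, hz, hd⟩
    refine ⟨k, ⟨?_, hk⟩, z, hz, hd⟩
    obtain ⟨hy, htr⟩ := fib_transfer f (hU.fromSpec p) z fun y z =>
      topologicalKrullDim ↥(closure ({z} : Set ↥(f.fiber y))) = (k : WithBot ℕ∞)
    have h := hN (f.fiberι _ z) (by
      show f (f.fiberι _ z) ∈ U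
      rw [show f (f.fiberι _ z) = hU.fromSpec p from hy]
      exact hU.range_fromSpec.le ⟨p, rfl⟩)
    rw [show clDim f (f.fiberι _ z) = (k : WithBot ℕ∞) from htr.2 hd, Nat.cast_le] at h
    exact h
  · rintro ⟨k, ⟨-, hk⟩, z, hz, hd⟩
    exact ⟨k, hk, z, hz, hd⟩

end Groth.Agent.FibEmbLib
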