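import Groth.Agent.FibreDepth.AssComponents
import Groth.Agent.FibreDepth.ConstrScheme
import Groth.Agent.CMFlatLib.ConstructibleScheme

/-!
Constructibility of the locus of fibres without embedded associated points (EGA IV 9.8).
-/

set_option autoImplicit false
set_option linter.style.haveILetI false
set_option backward.isDefEq.respectTransparency false

universe u

open CategoryTheory AlgebraicGeometry IsLocalRing TensorProduct Topology
open Groth.Agent.FibreDepth

namespace Groth.Agent.FibEmbLib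

attribute [local instance] Algebra.TensorProduct.rightAlgebra

/-- `(S₁)` at a point of affine space: no embedded associated point of the fibre specialises to it. -/
theorem tensSk_one_iff {A : Type u} [CommRing A] {m : ℕ} (M : Type u) [AddCommGroup M]
    [Module (MvPolynomial (Fin m) A) M] [Module.Finite (MvPolynomial (Fin m) A) M]
    (q : PrimeSpectrum (MvPolynomial (Fin m) A)) :
    TensSk (MvPolynomial (Fin m) A) (FibRing A q) M 1 ↔
      ∀ r : PrimeSpectrum (MvPolynomial (Fin m) A), r.asIdeal ≤ q.asIdeal → basePrime A r = basePrime A q →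
        tensDepth (MvPolynomial (Fin m) A) (FibRing A r) M = 0 →
          tensSupp (MvPolynomial (Fin m) A) (FibRing A r) M = 0 := by
  haveI : ∀ r : PrimeSpectrum (MvPolynomial (Fin m) A), IsRegularLocalRing (FibRing A r) := isRegularLocalRing_fibRing
  rw [TensSk, hasSk_tensor_iff]
  have key : ∀ r : PrimeSpectrum (MvPolynomial (Fin m) A),
      (min ((1 : ℕ) : WithBot ℕ∞) (tensSupp (MvPolynomial (Fin m) A) (FibRing A r) M) ≤
        ((tensDepth (MvPolynomial (Fin m) A) (FibRing A r) M : ℕ∞) : WithBot ℕ∞)) ↔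
      (tensDepth (MvPolynomial (Fin m) A) (FibRing A r) M = 0 →
        tensSupp (MvPolynomial (Fin m) A) (FibRing A r) M = 0) := by
    intro r
    obtain ⟨d, -, hd, -, -⟩ := fibRing_dim (A := A) r
    constructor
    · intro h h0
      obtain ⟨hne, -⟩ := (tensDepth_eq_zero_iff M d hd).1 h0
      rw [h0] at h
      refine le_antisymm ?_ ?_
      · rcases le_total ((1 : ℕ) : WithBot ℕ∞) (tensSupp (MvPolynomial (Fin m) A) (FibRing A r) M) with h' | h'
        · rw [min_eq_left h'] at h
          exact absurd (WithBot.coe_le_coe.1 h) (not_le.2 zero_lt_one)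
        · rw [min_eq_right h'] at h
          exact h
      · obtain ⟨s, hs⟩ := WithBot.ne_bot_iff_exists.1 hne
        rw [← hs]
        exact WithBot.coe_le_coe.2 bot_le
    · intro h
      by_cases h0 : tensDepth (MvPolynomial (Fin m) A) (FibRing A r) M = 0
      · rw [h h0, h0]
        exact min_le_right _ _
      · exact (min_le_left _ _).trans (WithBot.coe_le_coe.2 (Order.one_le_iff_pos.2 (pos_iff_ne_zero.2 h0)))
  constructor
  · intro H r hle hb
    obtain ⟨𝔯, h𝔯⟩ := exists_prime_of_le q r hle hb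
    obtain ⟨r', hr', -, ⟨E⟩⟩ := exists_algEquiv_fibRing q 𝔯.asIdeal
    obtain rfl : r' = r := PrimeSpectrum.ext (hr'.trans h𝔯.symm)
    have h := H 𝔯.asIdeal
    rw [(tens_congr (R' := FibRing A r') M E).1, (tens_congr (R' := FibRing A r') M E).2] at h
    exact (key r').1 h
  · intro H 𝔯 _
    obtain ⟨r, hr, hrq, ⟨E⟩⟩ := exists_algEquiv_fibRing q 𝔯
    rw [(tens_congr (R' := FibRing A r) M E).1, (tens_congr (R' := FibRing A r) M E).2]
    exact (key r).2 (H r hrq (basePrime_eq_of_prime q 𝔯 r hr hrq))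

variable {X Y : Scheme.{u}} {f : X ⟶ Y} {dep : X → ℕ∞} {supp : X → WithBot ℕ∞} {flatAt : X → Prop}

theorem isConstructible_model (𝔐 : Model f dep supp flatAt) :
    IsConstructible (𝔐.emb ⁻¹'
      {x : X | ∀ x', x' ⤳ x → f.base x' = f.base x → dep x' = 0 → supp x' = 0}) := by
  convert CMFlatLib.isConstructible_comap 𝔐.φ (isConstructible_tensSk (A := 𝔐.A) (m := 𝔐.m) 𝔐.M 1) using 1
  ext q
  rw [Set.mem_preimage, Set.mem_ofPred_eq, Set.mem_preimage, Set.mem_ofPred_eq,
    tensSk_one_iff 𝔐.M, 𝔐.forall_gen_iff q]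
  constructor
  · intro H r hle hb h0
    obtain ⟨d, t, hd, -, -⟩ := fibRing_dim (A := 𝔐.A) r
    haveI := isRegularLocalRing_fibRing (A := 𝔐.A) r
    obtain ⟨z, rfl⟩ := 𝔐.exists_pt_of_mem_support r
      ((mem_support_iff_fib (A := 𝔐.A) 𝔐.M r).2 ((tensDepth_eq_zero_iff 𝔐.M d hd).1 h0).1)
    exact (𝔐.supp_eq z).symm.trans (H z ⟨hle, hb⟩ ((𝔐.depth_eq z).trans h0))
  · intro H z hz h0
    exact (𝔐.supp_eq z).trans (H (𝔐.pt z) hz.1 hz.2 ((𝔐.depth_eq z).symm.trans h0))

/-- The locus of fibres without embedded associated points is locally constructible. -/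
theorem isLocallyConstructible_noEmbedded {X S : Scheme.{u}} (f : X ⟶ S) [LocallyOfFinitePresentation f]
    [QuasiCompact f] (F : X.Modules) [Coh.IsQCoh F] (hF : CohB1.IsFP F) :
    IsLocallyConstructible {s : S | AssSch.NoEmbedded ((Scheme.Modules.pullback (f.fiberι s)).obj F)} := by
  let Q : ∀ y : S, ↥(f.fiber y) → Prop := fun y w =>
    ∀ z ∈ AssSch.Ass ((Scheme.Modules.pullback (f.fiberι y)).obj F), w ∈ closure {z} →
      ∀ z' ∈ AssSch.Ass ((Scheme.Modules.pullback (f.fiberι y)).obj F), z ∈ closure {z'} → z' = z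
  have hT : IsLocallyConstructible {x : X | Q (f.base x) (f.asFiber x)} := by
    have hset : {x : X | Q (f.base x) (f.asFiber x)} = {x : X | ∀ x', x' ⤳ x → f.base x' = f.base x →
        CInt.fiberDepth f F x' = 0 → fiberSupp f F x' = 0} := by
      ext x
      rw [Set.mem_ofPred_eq, Set.mem_ofPred_eq]
      have h := forall_fiber_iff f (fun y z => z ∈ AssSch.Ass ((Scheme.Modules.pullback (f.fiberι y)).obj F) →
        ∀ z' ∈ AssSch.Ass ((Scheme.Modules.pullback (f.fiberι y)).obj F), z ∈ closure {z'} → z' = z) x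
      refine Iff.trans ⟨fun H z hz h' => H z h' hz, fun H z hz h' => H z h' hz⟩
        (h.trans (forall₃_congr fun x' _ _ => ?_))
      rw [mem_ass_iff f F hF]
      exact forall_congr' fun h0 => not_embedded_iff f F hF x' h0
    rw [hset]
    refine isLocallyConstructible_of_embeddings _ fun x => ?_
    obtain ⟨𝔐, hx⟩ := exists_model f F hF x
    exact ⟨𝔐.B, 𝔐.commB, 𝔐.emb, 𝔐.isOpenEmbedding, hx, isConstructible_model 𝔐⟩
  rw [show {s : S | AssSch.NoEmbedded ((Scheme.Modules.pullback (f.fiberι s)).obj F)} =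
    (f '' {x : X | Q (f.base x) (f.asFiber x)}ᶜ)ᶜ from ?_]
  · exact CMFlatLib.isLocallyConstructible_compl
      (f.isLocallyConstructible_image (CMFlatLib.isLocallyConstructible_compl hT))
  ext y
  constructor
  · rintro hy ⟨x, hx, rfl⟩
    exact hx fun z hz _ z' hz' hcl => (hy z hz z' hz' (specializes_iff_mem_closure.2 hcl)).symm
  · intro hy z hz z' hz' hsp
    by_contra hne
    refine hy ⟨f.fiberι y z, fun hc => hne ?_, (fib_transfer f y z Q).1⟩
    exact ((fib_transfer f y z Q).2.1 hc z hz (subset_closure rfl) z' hz' (specializes_iff_mem_closure.1 hsp)).symm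

end Groth.Agent.FibEmbLib
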