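import Groth.Agent.FibEmbLib.Components
import Groth.Agent.NearGen.ConstrScheme
import Groth.Agent.OpenDim.Components

/-!
Constructibility of the dimensions of the fibres of constructible sets (EGA IV 9.5).
-/

set_option autoImplicit false
set_option linter.style.haveILetI false

universe u

open CategoryTheory AlgebraicGeometry TensorProduct Topology
open Groth.Agent.FibreDepth

namespace Groth.Agent.FibEmbLib

variable {X Y : Scheme.{u}} (f : X ⟶ Y)

theorem clDim_eq_trd [LocallyOfFiniteType f] (x : X) : clDim f x = (OpenDim.trd f x : WithBot ℕ∞) := by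
  rw [← OpenDim.dim_generic_fibre f (ξ := x)]
  let ι := f.fiberι (f.base x)
  have hι : ι.base (f.asFiber x) = x := f.fiberι_asFiber x
  have hrange : Set.range (fun z : ↥(closure ({f.asFiber x} : Set ↥(f.fiber (f.base x)))) => ι.base z.1) =
      closure ({x} : Set X) ∩ f.base ⁻¹' {f.base x} := by
    ext w
    constructor
    · rintro ⟨⟨z, hz⟩, rfl⟩
      refine ⟨?_, ?_⟩
      · have := (specializes_iff_mem_closure.2 hz).map ι.continuous
        rw [hι] at this
        exact specializes_iff_mem_closure.1 this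
      · have : ι.base z ∈ Set.range ι := ⟨z, rfl⟩
        rw [show Set.range ι = f ⁻¹' {f.base x} from f.range_fiberι _] at this
        exact this
    · rintro ⟨hcl, hw⟩
      obtain ⟨z, rfl⟩ : w ∈ Set.range ι := by rw [show Set.range ι = f ⁻¹' {f.base x} from f.range_fiberι _]; exact hw
      refine ⟨⟨z, specializes_iff_mem_closure.1 (ι.isEmbedding.isInducing.specializes_iff.1 ?_)⟩, rfl⟩
      rw [hι]
      exact specializes_iff_mem_closure.2 hcl
  rw [clDim]
  have hemb : IsEmbedding (fun z : ↥(closure ({f.asFiber x} : Set ↥(f.fiber (f.base x)))) => ι.base z.1) :=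
    ι.isEmbedding.comp IsEmbedding.subtypeVal
  exact (hemb.toHomeomorph.trans (Homeomorph.setCongr hrange)).isHomeomorph.topologicalKrullDim_eq

theorem isConstructible_image_piece [LocallyOfFinitePresentation f] {U : Y.Opens} (hU : IsAffineOpen U)
    {W : X.Opens} (hW : IsAffineOpen W) (e : W ≤ f ⁻¹ᵁ U) (C : PrimeSpectrum.BasicConstructibleSetData Γ(X, W))
    (n : ℕ) :
    IsConstructible {p : PrimeSpectrum Γ(Y, U) | ∃ q ∈ C.toSet, f (hW.fromSpec q) = hU.fromSpec p ∧
      n ≤ OpenDim.trd f (hW.fromSpec q)} := by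
  letI := (f.appLE U W e).hom.toAlgebra
  haveI : Algebra.FinitePresentation Γ(Y, U) Γ(X, W) := f.finitePresentation_appLE hU hW e
  let I := Ideal.span (Set.range C.g)
  let C' := Localization.Away (Ideal.Quotient.mk I C.f)
  have hI : I.FG := Submodule.fg_span (Set.finite_range C.g)
  haveI : Algebra.FinitePresentation Γ(Y, U) (Γ(X, W) ⧸ I) := Algebra.FinitePresentation.quotient hI
  haveI : Algebra.FinitePresentation Γ(Y, U) C' := Algebra.FinitePresentation.trans _ (Γ(X, W) ⧸ I) _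
  let π : Γ(X, W) →+* C' := (algebraMap (Γ(X, W) ⧸ I) C').comp (Ideal.Quotient.mk I)
  have hπA : π.comp (algebraMap Γ(Y, U) Γ(X, W)) = algebraMap Γ(Y, U) C' := by
    rw [IsScalarTower.algebraMap_eq Γ(Y, U) (Γ(X, W) ⧸ I) C']
    rfl
  have hemb : IsEmbedding (PrimeSpectrum.comap π) := by
    rw [show (PrimeSpectrum.comap π : PrimeSpectrum C' → PrimeSpectrum Γ(X, W)) =
      PrimeSpectrum.comap (Ideal.Quotient.mk I) ∘ PrimeSpectrum.comap (algebraMap (Γ(X, W) ⧸ I) C') from rfl]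
    exact (PrimeSpectrum.isClosedEmbedding_comap_of_surjective _ _ Ideal.Quotient.mk_surjective).isEmbedding.comp
      (PrimeSpectrum.localization_away_isOpenEmbedding C' (Ideal.Quotient.mk I C.f)).isEmbedding
  have hrange : Set.range (PrimeSpectrum.comap π) = C.toSet := by
    rw [show (PrimeSpectrum.comap π : PrimeSpectrum C' → PrimeSpectrum Γ(X, W)) =
      PrimeSpectrum.comap (Ideal.Quotient.mk I) ∘ PrimeSpectrum.comap (algebraMap (Γ(X, W) ⧸ I) C') from rfl,
      Set.range_comp, PrimeSpectrum.localization_away_comap_range C' (Ideal.Quotient.mk I C.f)]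
    ext q
    rw [PrimeSpectrum.BasicConstructibleSetData.toSet]
    constructor
    · rintro ⟨r, hr, rfl⟩
      refine ⟨?_, fun h => hr ?_⟩
      · rw [PrimeSpectrum.mem_zeroLocus, ← Ideal.span_le]
        intro a ha
        show Ideal.Quotient.mk I a ∈ r.asIdeal
        rw [Ideal.Quotient.eq_zero_iff_mem.2 ha]
        exact zero_mem _
      · have h2 : C.f ∈ (PrimeSpectrum.comap (Ideal.Quotient.mk I) r).asIdeal := Set.singleton_subset_iff.1 h
        exact h2
    · rintro ⟨hg, hf⟩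
      obtain ⟨r, rfl⟩ : q ∈ Set.range (PrimeSpectrum.comap (Ideal.Quotient.mk I)) := by
        rw [range_comap_of_surjective _ _ Ideal.Quotient.mk_surjective, Ideal.mk_ker, PrimeSpectrum.mem_zeroLocus]
        exact Ideal.span_le.2 hg
      exact ⟨r, fun h => hf (Set.singleton_subset_iff.2 h), rfl⟩
  convert NearGen.isConstructible_ringKrullDim (A := Γ(Y, U)) (B := C') (fun d => (n : WithBot ℕ∞) ≤ d) using 1
  ext p
  rw [Set.mem_ofPred_eq, Set.mem_ofPred_eq]
  let T := PrimeSpectrum.comap (algebraMap Γ(Y, U) C') ⁻¹' {p}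
  let φ : T → X := fun z => hW.fromSpec (PrimeSpectrum.comap π z.1)
  have hφ : IsEmbedding φ := hW.fromSpec.isOpenEmbedding.isEmbedding.comp (hemb.comp IsEmbedding.subtypeVal)
  let Cs : Set X := (hW.fromSpec '' (PrimeSpectrum.zeroLocus (Set.range C.g))ᶜ)ᶜ
  have hCs : IsClosed Cs := (hW.fromSpec.isOpenEmbedding.isOpenMap _
    (PrimeSpectrum.isClosed_zeroLocus _).isOpen_compl).isClosed_compl
  let Us : Set X := hW.fromSpec '' (PrimeSpectrum.zeroLocus {C.f})ᶜ
  have hUs : IsOpen Us := hW.fromSpec.isOpenEmbedding.isOpenMap _ (PrimeSpectrum.isClosed_zeroLocus _).isOpen_compl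
  have hpt : ∀ q : PrimeSpectrum Γ(X, W), f (hW.fromSpec q) = hU.fromSpec p ↔
      PrimeSpectrum.comap (algebraMap Γ(Y, U) Γ(X, W)) q = p := fun q => by
    rw [NearGen.apply_fromSpec f hU hW e]
    exact hU.fromSpec.isOpenEmbedding.injective.eq_iff
  have hφr : Set.range φ = Cs ∩ Us ∩ f ⁻¹' {hU.fromSpec p} := by
    ext x
    constructor
    · rintro ⟨⟨z, hz⟩, rfl⟩
      have hmem : PrimeSpectrum.comap π z ∈ C.toSet := hrange.le ⟨z, rfl⟩
      refine ⟨⟨?_, ⟨_, hmem.2, rfl⟩⟩, ?_⟩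
      · rintro ⟨q, hq, hqe⟩
        exact hq (hW.fromSpec.isOpenEmbedding.injective hqe ▸ hmem.1)
      · refine (hpt _).2 ?_
        have hz' : PrimeSpectrum.comap (algebraMap Γ(Y, U) C') z = p := hz
        rw [← hπA] at hz'
        exact hz'
    · rintro ⟨⟨hC, ⟨q, hqf, rfl⟩⟩, hfx⟩
      have hqg : q ∈ PrimeSpectrum.zeroLocus (Set.range C.g) := by
        by_contra hne
        exact hC ⟨q, hne, rfl⟩
      obtain ⟨z, rfl⟩ : q ∈ Set.range (PrimeSpectrum.comap π) := hrange.ge ⟨hqg, hqf⟩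
      refine ⟨⟨z, ?_⟩, rfl⟩
      show PrimeSpectrum.comap (algebraMap Γ(Y, U) C') z = p
      rw [← hπA]
      exact (hpt _).1 hfx
  have hdim : ringKrullDim (p.asIdeal.ResidueField ⊗[Γ(Y, U)] C') =
      topologicalKrullDim ↥(Cs ∩ Us ∩ f ⁻¹' {hU.fromSpec p}) := by
    rw [← PrimeSpectrum.topologicalKrullDim_eq_ringKrullDim,
      ← ((PrimeSpectrum.preimageHomeomorphFiber Γ(Y, U) C' p)).isHomeomorph.topologicalKrullDim_eq]
    exact (hφ.toHomeomorph.trans (Homeomorph.setCongr hφr)).isHomeomorph.topologicalKrullDim_eq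
  rw [hdim]
  constructor
  · rintro ⟨q, hq, hfq, hn⟩
    refine le_trans (Nat.cast_le.2 hn) (OpenDim.trd_le_dim_inter f Cs hCs Us hUs _ _ rfl ⟨⟨?_, ⟨q, hq.2, rfl⟩⟩, hfq⟩)
    rintro ⟨q', hq', hqe⟩
    exact hq' (hW.fromSpec.isOpenEmbedding.injective hqe ▸ hq.1)
  · intro h
    by_contra hne
    push Not at hne
    have hlt : ∀ w ∈ Cs ∩ Us ∩ f ⁻¹' {hU.fromSpec p}, OpenDim.trd f w < n := by
      rintro w ⟨⟨hC, ⟨q, hqf, rfl⟩⟩, hfw⟩
      refine hne q ⟨?_, hqf⟩ hfw
      by_contra h'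
      exact hC ⟨q, h', rfl⟩
    cases n with
    | zero =>
      have h1 := OpenDim.dim_inter_le f Cs hCs Us hUs _ _ rfl (D := ⊥) fun w hw => absurd (hlt w hw) (Nat.not_lt_zero _)
      exact WithBot.natCast_ne_bot 0 (le_bot_iff.1 (h.trans h1))
    | succ k =>
      have h1 := OpenDim.dim_inter_le f Cs hCs Us hUs _ _ rfl (D := (k : WithBot ℕ∞))
        fun w hw => Nat.cast_le.2 (Nat.lt_succ_iff.1 (hlt w hw))
      exact absurd (Nat.cast_le.1 (h.trans h1)) (Nat.not_succ_le_self k)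

/-- The locus where the trace of a constructible set on the fibre has dimension at least `n`. -/
theorem isLocallyConstructible_image_dim_ge [LocallyOfFinitePresentation f] [QuasiCompact f] {V : Set X}
    (hV : IsLocallyConstructible V) (n : ℕ) :
    IsLocallyConstructible {y : Y | ∃ x ∈ V, f x = y ∧ n ≤ OpenDim.trd f x} := by
  refine NearGen.isLocallyConstructible_of_affine _ fun U hU => ?_
  obtain ⟨s, hs, hcov⟩ := NearGen.exists_affines f hU
  have hW : ∀ W : s, IsConstructible {p : PrimeSpectrum Γ(Y, U) | ∃ q : PrimeSpectrum Γ(X, W.1),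
      (hs W.1 W.2).1.fromSpec q ∈ V ∧ f ((hs W.1 W.2).1.fromSpec q) = hU.fromSpec p ∧
        n ≤ OpenDim.trd f ((hs W.1 W.2).1.fromSpec q)} := fun W => by
    have hc : IsConstructible ((hs W.1 W.2).1.fromSpec ⁻¹' V) :=
      IsLocallyConstructible.isConstructible (X := PrimeSpectrum Γ(X, W.1))
        (hV.preimage_of_isOpenEmbedding (hs W.1 W.2).1.fromSpec.isOpenEmbedding)
    obtain ⟨D, hD⟩ := PrimeSpectrum.exists_constructibleSetData_iff.2 hc
    convert IsConstructible.biUnion (t := (D : Set (PrimeSpectrum.BasicConstructibleSetData Γ(X, W.1))))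
      D.finite_toSet fun C _ => isConstructible_image_piece f hU (hs W.1 W.2).1 (hs W.1 W.2).2 C n using 1
    ext p
    simp only [Set.mem_ofPred_eq, Set.mem_iUnion₂, exists_prop, Finset.mem_coe]
    constructor
    · rintro ⟨q, hq, h1, h2⟩
      have hq' : q ∈ D.toSet := hD.ge hq
      obtain ⟨C, hC, hqC⟩ := Set.mem_iUnion₂.1 hq'
      exact ⟨C, hC, q, hqC, h1, h2⟩
    · rintro ⟨C, hC, q, hqC, h1, h2⟩
      exact ⟨q, hD.le (Set.mem_iUnion₂.2 ⟨C, hC, hqC⟩), h1, h2⟩
  refine (Set.ext fun p => ?_ : hU.fromSpec ⁻¹' {y : Y | ∃ x ∈ V, f x = y ∧ n ≤ OpenDim.trd f x} = _) ▸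
    IsConstructible.iUnion hW
  simp only [Set.mem_preimage, Set.mem_ofPred_eq, Set.mem_iUnion]
  constructor
  · rintro ⟨x, hx, hfx, hn⟩
    obtain ⟨W, hWs, hxW⟩ := hcov x (hfx ▸ hU.range_fromSpec.le ⟨p, rfl⟩)
    obtain ⟨q, rfl⟩ : x ∈ Set.range (hs W hWs).1.fromSpec := (hs W hWs).1.range_fromSpec.ge hxW
    exact ⟨⟨W, hWs⟩, q, hx, hfx, hn⟩
  · rintro ⟨W, q, hq, h1, h2⟩
    exact ⟨_, hq, h1, h2⟩

end Groth.Agent.FibEmbLib
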